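import Mathlib

/-! Deviations of continuous real functions on a compact abelian group. -/

universe u v

open MeasureTheory

namespace Groth.Agent.Deviation

section Algebra

variable {G : Type u} [AddCommGroup G] {α : Type v} [DecidableEq α]

/-- The alternating sum over all subsets. -/
def alt (s : Finset α) (φ : G → ℝ) (x : α → G) : ℝ :=
  ∑ I ∈ s.powerset, (-1 : ℝ) ^ (s.card + I.card) * φ (∑ i ∈ I, x i)

/-- The alternating sum over nonempty subsets. -/
def dev (s : Finset α) (φ : G → ℝ) (x : α → G) : ℝ :=
  ∑ I ∈ s.powerset.erase ∅, (-1 : ℝ) ^ (s.card + I.card) * φ (∑ i ∈ I, x i)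

theorem dev_eq (s : Finset α) (φ : G → ℝ) (x : α → G) :
    dev s φ x = alt s φ x - (-1 : ℝ) ^ s.card * φ 0 := by
  rw [dev, Finset.sum_erase_eq_sub (by simp), alt]
  simp

theorem alt_insert {s : Finset α} {a : α} (ha : a ∉ s) (φ : G → ℝ) (x : α → G) :
    alt (insert a s) φ x = alt s (fun g => φ (x a + g)) x - alt s φ x := by
  rw [alt, Finset.sum_powerset_insert ha, alt, alt, Finset.card_insert_of_notMem ha,
    ← Finset.sum_add_distrib, ← Finset.sum_sub_distrib]
  refine Finset.sum_congr rfl fun I hI => ?_
  have haI : a ∉ I := fun h => ha (Finset.mem_powerset.mp hI h)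
  rw [Finset.card_insert_of_notMem haI, Finset.sum_insert haI]
  simp only [pow_add, pow_one]
  ring

theorem alt_congr {s : Finset α} {φ : G → ℝ} {x y : α → G} (h : ∀ i ∈ s, x i = y i) :
    alt s φ x = alt s φ y := by
  refine Finset.sum_congr rfl fun I hI => ?_
  rw [Finset.sum_congr rfl fun i hi => h i (Finset.mem_powerset.mp hI hi)]

/-- The deviation recursion. -/
theorem dev_insert {s : Finset α} {i j : α} (hi : i ∈ s) (hj : j ∉ s) (φ : G → ℝ) (x : α → G) :
    dev (insert j s) φ x = dev s φ (Function.update x i (x i + x j)) - dev s φ x -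
      dev s φ (Function.update x i (x j)) := by
  obtain ⟨t, hit, rfl⟩ : ∃ t, i ∉ t ∧ s = insert i t :=
    ⟨s.erase i, Finset.notMem_erase i s, (Finset.insert_erase hi).symm⟩
  have hij : i ≠ j := fun h => hj (h ▸ hi)
  have hjt : j ∉ t := fun h => hj (Finset.mem_insert_of_mem h)
  have e : ∀ (ψ : G → ℝ) (y : G), alt t ψ (Function.update x i y) = alt t ψ x := fun ψ y =>
    alt_congr fun k hk => Function.update_of_ne (fun h : k = i => hit (h ▸ hk)) _ _
  simp only [dev_eq, alt_insert hj, alt_insert hit, Finset.card_insert_of_notMem hj,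
    Function.update_self, e]
  have h2 : (fun g => φ (x j + (x i + g))) = fun g => φ (x i + x j + g) := by
    funext g; congr 1; abel
  rw [h2]
  simp only [pow_succ]
  ring

theorem alt_map {β : Type*} [DecidableEq β] (e : α ↪ β) (s : Finset α) (φ : G → ℝ) (x : β → G) :
    alt (s.map e) φ x = alt s φ (fun a => x (e a)) := by
  simp only [alt]
  have : (s.map e).powerset = s.powerset.map (Finset.mapEmbedding e).toEmbedding := by
    ext I
    simp only [Finset.mem_powerset, Finset.subset_map_iff, Finset.mem_map,
      RelEmbedding.coe_toEmbedding, Finset.mapEmbedding_apply]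
    exact ⟨fun ⟨u, hu, h⟩ => ⟨u, hu, h.symm⟩, fun ⟨u, hu, h⟩ => ⟨u, hu, h.symm⟩⟩
  rw [this, Finset.sum_map]
  simp [Finset.mapEmbedding_apply]

theorem dev_map {β : Type*} [DecidableEq β] (e : α ↪ β) (s : Finset α) (φ : G → ℝ) (x : β → G) :
    dev (s.map e) φ x = dev s φ (fun a => x (e a)) := by
  rw [dev_eq, dev_eq, alt_map, Finset.card_map]

/-- The recursion for all of `Fin (n + 2)`. -/
theorem dev_univ_succ {n : ℕ} (φ : G → ℝ) (x : Fin (n + 2) → G) :
    dev Finset.univ φ x =
      dev Finset.univ φ (Function.update (Fin.init x) (Fin.last n)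
        (x (Fin.last n).castSucc + x (Fin.last (n + 1)))) - dev Finset.univ φ (Fin.init x) -
      dev Finset.univ φ (Function.update (Fin.init x) (Fin.last n) (x (Fin.last (n + 1)))) := by
  have hu : (Finset.univ : Finset (Fin (n + 2))) =
      insert (Fin.last (n + 1)) (Finset.univ.map Fin.castSuccEmb) := by
    ext k
    simp only [Finset.mem_univ, Finset.mem_insert, Finset.mem_map, true_and, true_iff]
    induction k using Fin.lastCases with
    | last => exact .inl rfl
    | cast k => exact .inr ⟨k, rfl⟩
  conv_lhs => rw [hu, dev_insert (i := (Fin.last n).castSucc) (by simp) (by simp)]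
  simp only [dev_map]
  have key : ∀ y : G, (fun a => Function.update x (Fin.last n).castSucc y (Fin.castSuccEmb a)) =
      Function.update (Fin.init x) (Fin.last n) y := by
    intro y
    funext a
    rcases eq_or_ne a (Fin.last n) with rfl | ha
    · rw [Function.update_self]; exact Function.update_self ..
    · rw [Function.update_of_ne ha]
      exact Function.update_of_ne (fun h => ha (Fin.castSucc_injective _ h)) _ _
  simp only [key]
  rfl

theorem dev_univ_one (φ : G → ℝ) (x : Fin 1 → G) : dev Finset.univ φ x = φ (x 0) := by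
  have : (Finset.univ : Finset (Fin 1)).powerset.erase ∅ = {Finset.univ} := by decide
  rw [dev, this]
  simp

theorem continuous_dev [TopologicalSpace G] [IsTopologicalAddGroup G] [Fintype α]
    (s : Finset α) {φ : G → ℝ} (hφ : Continuous φ) : Continuous (dev s φ) := by
  refine continuous_finsetSum _ fun I _ => continuous_const.mul (hφ.comp ?_)
  exact continuous_finsetSum _ fun i _ => continuous_apply i

end Algebra

section Compact

variable {G : Type u} [TopologicalSpace G] [CompactSpace G] [T2Space G]
  [MeasurableSpace G] [BorelSpace G]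

/-- Continuous functions on a finite power of a compact Hausdorff space are measurable for
the product σ-algebra. -/
theorem measurable_of_continuous_pi {ι : Type*} [Finite ι] {f : (ι → G) → ℝ}
    (hf : Continuous f) : Measurable f := by
  let A : Subalgebra ℝ C(ι → G, ℝ) :=
    { carrier := {g | Measurable g}
      mul_mem' := fun {a b} (ha : Measurable a) (hb : Measurable b) => ha.mul hb
      add_mem' := fun {a b} (ha : Measurable a) (hb : Measurable b) => ha.add hb
      algebraMap_mem' := fun r => measurable_const }
  have hA : A.SeparatesPoints := by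
    intro x y hxy
    obtain ⟨i, hi⟩ := Function.ne_iff.mp hxy
    obtain ⟨g, hg0, hg1, -⟩ := exists_continuous_zero_one_of_isClosed (isClosed_singleton (x := x i))
      (isClosed_singleton (x := y i)) (Set.disjoint_singleton.mpr hi)
    refine ⟨_, ⟨g.comp ⟨fun z => z i, continuous_apply i⟩, ?_, rfl⟩, ?_⟩
    · exact g.continuous.measurable.comp (measurable_pi_apply i)
    · simpa [hg0 rfl, hg1 rfl] using (zero_ne_one (α := ℝ))
  have h := ContinuousMap.subalgebra_topologicalClosure_eq_top_of_separatesPoints A hA
  have hmem : (⟨f, hf⟩ : C(ι → G, ℝ)) ∈ A.topologicalClosure := h ▸ Algebra.mem_top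
  obtain ⟨u, hu, hlim⟩ := mem_closure_iff_seq_limit.mp hmem
  exact measurable_of_tendsto_metrizable (f := fun n => ⇑(u n)) (fun n => hu n)
    (tendsto_pi_nhds.mpr fun z => ((continuous_eval_const z).tendsto _).comp hlim)

theorem integrable_of_continuous_pi {ι : Type*} [Fintype ι] (ν : Measure (ι → G))
    [IsFiniteMeasure ν] {f : (ι → G) → ℝ} (hf : Continuous f) : Integrable f ν := by
  obtain ⟨C, hC⟩ := isCompact_univ.exists_bound_of_continuousOn hf.continuousOn
  exact Integrable.mono' (integrable_const C) (measurable_of_continuous_pi hf).aestronglyMeasurable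
    (.of_forall fun x => hC x trivial)

theorem integrable_of_continuous (μ : Measure G) [IsFiniteMeasure μ] {f : G → ℝ}
    (hf : Continuous f) : Integrable f μ := by
  obtain ⟨C, hC⟩ := isCompact_univ.exists_bound_of_continuousOn hf.continuousOn
  exact Integrable.mono' (integrable_const C) hf.measurable.aestronglyMeasurable
    (.of_forall fun x => hC x trivial)

/-- A parametric integral over a compact space is continuous. -/
theorem continuous_integral {X K : Type*} [TopologicalSpace X] [TopologicalSpace K]
    [CompactSpace K] [MeasurableSpace K] (ν : Measure K) [IsFiniteMeasure ν]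
    {F : X → K → ℝ} (hF : Continuous (Function.uncurry F)) (hint : ∀ x, Integrable (F x) ν) :
    Continuous fun x => ∫ k, F x k ∂ν := by
  let c : C(X, C(K, ℝ)) := ContinuousMap.curry ⟨_, hF⟩
  rw [continuous_iff_continuousAt]
  intro x
  have hx : Filter.Tendsto (fun y => ‖c y - c x‖) (nhds x) (nhds 0) := by
    have : Continuous fun y => ‖c y - c x‖ := (c.continuous.sub continuous_const).norm
    simpa using this.tendsto x
  rw [ContinuousAt, tendsto_iff_norm_sub_tendsto_zero]
  refine squeeze_zero (fun _ => norm_nonneg _) (fun y => ?_)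
    (by simpa using hx.mul_const (ν.real Set.univ))
  rw [← integral_sub (hint y) (hint x)]
  exact norm_integral_le_of_norm_le_const (.of_forall fun k => (c y - c x).norm_coe_le_norm k)

variable (μ : Measure G) [IsProbabilityMeasure μ]

/-- `(-1)^m` times the integral over all but the first coordinate. -/
noncomputable def Phi (m : ℕ) (ψ : (Fin (m + 1) → G) → ℝ) (g : G) : ℝ :=
  (-1 : ℝ) ^ m * ∫ u, ψ (Fin.cons g u) ∂(Measure.pi fun _ : Fin m => μ)

/-- Minus the integral over the last coordinate. -/
noncomputable def step {m : ℕ} (ψ : (Fin (m + 2) → G) → ℝ) (x : Fin (m + 1) → G) : ℝ :=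
  -∫ c, ψ (Fin.snoc x c) ∂μ

omit [CompactSpace G] [T2Space G] [MeasurableSpace G] [BorelSpace G] in
theorem continuous_snoc {m : ℕ} :
    Continuous fun p : (Fin m → G) × G => (Fin.snoc p.1 p.2 : Fin (m + 1) → G) := by
  refine continuous_pi fun i => ?_
  induction i using Fin.lastCases with
  | last => simp only [Fin.snoc_last]; fun_prop
  | cast i => simp only [Fin.snoc_castSucc]; fun_prop

theorem continuous_step {m : ℕ} {ψ : (Fin (m + 2) → G) → ℝ} (hψ : Continuous ψ) :
    Continuous (step μ ψ) := by
  refine (continuous_integral μ (F := fun x c => ψ (Fin.snoc x c)) (hψ.comp continuous_snoc)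
    fun x => integrable_of_continuous μ ?_).neg
  exact hψ.comp (continuous_snoc.comp (Continuous.prodMk_right x))

omit [CompactSpace G] [T2Space G] [MeasurableSpace G] [BorelSpace G] in
theorem continuous_cons {m : ℕ} :
    Continuous fun p : G × (Fin m → G) => (Fin.cons p.1 p.2 : Fin (m + 1) → G) := by
  refine continuous_pi fun i => ?_
  induction i using Fin.cases with
  | zero => simp only [Fin.cons_zero]; fun_prop
  | succ i => simp only [Fin.cons_succ]; fun_prop

theorem continuous_Phi (m : ℕ) {ψ : (Fin (m + 1) → G) → ℝ} (hψ : Continuous ψ) :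
    Continuous (Phi μ m ψ) :=
  continuous_const.mul (continuous_integral _ (F := fun g u => ψ (Fin.cons g u))
    (hψ.comp continuous_cons)
    fun g => integrable_of_continuous_pi _ (hψ.comp (continuous_cons.comp (Continuous.prodMk_right g))))

theorem Phi_step {m : ℕ} {ψ : (Fin (m + 2) → G) → ℝ} (hψ : Continuous ψ) (g : G) :
    Phi μ (m + 1) ψ g = Phi μ m (step μ ψ) g := by
  have hmp := measurePreserving_piFinSuccAbove (fun _ : Fin (m + 1) => μ) (Fin.last m)
  let f : (Fin (m + 1) → G) → ℝ := fun u => ψ (Fin.cons g u)
  have hf : Continuous f := hψ.comp (continuous_cons.comp (Continuous.prodMk_right g))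
  let e := MeasurableEquiv.piFinSuccAbove (fun _ : Fin (m + 1) => G) (Fin.last m)
  have he : ∀ c u, e.symm (c, u) = Fin.snoc u c := fun c u => by
    simp [e, MeasurableEquiv.piFinSuccAbove, Fin.insertNth_last']
    rfl
  have hint : Integrable (fun p => f (e.symm p)) (μ.prod (Measure.pi fun _ : Fin m => μ)) :=
    hmp.symm.integrable_comp_emb e.symm.measurableEmbedding |>.mpr (integrable_of_continuous_pi _ hf)
  have key : ∫ u, f u ∂(Measure.pi fun _ : Fin (m + 1) => μ) =
      ∫ u, ∫ c, ψ (Fin.snoc (Fin.cons g u) c) ∂μ ∂(Measure.pi fun _ : Fin m => μ) := by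
    rw [← hmp.symm.integral_comp' (g := f)]
    refine (MeasureTheory.integral_prod_symm _ hint).trans ?_
    simp only [f, he, Fin.cons_snoc_eq_snoc_cons]
  simp only [Phi, step, f] at key ⊢
  rw [key, integral_neg, pow_succ]
  ring

theorem Phi_zero (ψ : (Fin 1 → G) → ℝ) (x : Fin 1 → G) : Phi μ 0 ψ (x 0) = ψ x := by
  simp only [Phi, pow_zero, one_mul, integral_unique, probReal_univ, one_smul]
  congr 1
  funext i
  rw [Fin.fin_one_eq_zero i, Fin.cons_zero]

variable [AddCommGroup G] [IsTopologicalAddGroup G] [μ.IsAddLeftInvariant]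

omit [TopologicalSpace G] [CompactSpace G] [T2Space G] [MeasurableSpace G] [BorelSpace G]
  [IsTopologicalAddGroup G] in
theorem update_snoc_init {m : ℕ} (x : Fin (m + 2) → G) (a c : G) :
    Function.update (Function.update x (Fin.last m).castSucc a) (Fin.last (m + 1)) c =
      Fin.snoc (Function.update (Fin.init x) (Fin.last m) a) c := by
  funext i
  induction i using Fin.lastCases with
  | last => simp
  | cast i =>
    have : i.castSucc ≠ Fin.last (m + 1) := (Fin.castSucc_lt_last i).ne
    simp [Function.update_of_ne this, Fin.init, Function.update_apply]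

/-- The pairwise cocycle condition. -/
def IsCocycle {n : ℕ} (ψ : (Fin n → G) → ℝ) : Prop :=
  ∀ (i j : Fin n), i ≠ j → ∀ (x : Fin n → G) (a b c : G),
    ψ (Function.update (Function.update x i (a + b)) j c) + ψ (Function.update (Function.update x i a) j b) =
      ψ (Function.update (Function.update x i a) j (b + c)) + ψ (Function.update (Function.update x i b) j c)

theorem integrable_snoc {m : ℕ} {ψ : (Fin (m + 2) → G) → ℝ} (hψ : Continuous ψ)
    (y : Fin (m + 1) → G) : Integrable (fun c => ψ (Fin.snoc y c)) μ :=
  integrable_of_continuous μ (hψ.comp (continuous_snoc.comp (Continuous.prodMk_right y)))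

theorem isCocycle_step {m : ℕ} {ψ : (Fin (m + 2) → G) → ℝ} (hψc : Continuous ψ)
    (hψ : IsCocycle ψ) : IsCocycle (step μ ψ) := by
  intro i j hij x a b c
  simp only [step, ← neg_add, neg_inj]
  rw [← integral_add (integrable_snoc μ hψc _) (integrable_snoc μ hψc _),
    ← integral_add (integrable_snoc μ hψc _) (integrable_snoc μ hψc _)]
  refine integral_congr_ae (.of_forall fun d => ?_)
  have h := hψ i.castSucc j.castSucc (by simpa using hij) (Fin.snoc x d) a b c
  simpa only [← Fin.snoc_update] using h

/-- A continuous cocycle is determined by its last integral. -/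
theorem eq_step {m : ℕ} {ψ : (Fin (m + 2) → G) → ℝ} (hψc : Continuous ψ)
    (hψ : IsCocycle ψ) (x : Fin (m + 2) → G) :
    ψ x = step μ ψ (Function.update (Fin.init x) (Fin.last m)
        (x (Fin.last m).castSucc + x (Fin.last (m + 1)))) - step μ ψ (Fin.init x) -
      step μ ψ (Function.update (Fin.init x) (Fin.last m) (x (Fin.last (m + 1)))) := by
  set i := (Fin.last m).castSucc
  set j := Fin.last (m + 1)
  set a := x i
  set b := x j
  let U : G → G → ℝ := fun a c => ψ (Fin.snoc (Function.update (Fin.init x) (Fin.last m) a) c)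
  have hint : ∀ a, Integrable (U a) μ := fun a => integrable_snoc μ hψc _
  have hc : ∀ c, U (a + b) c + U a b = U a (b + c) + U b c := fun c => by
    have := hψ i j (Fin.castSucc_lt_last _).ne x a b c
    simpa only [i, j, update_snoc_init] using this
  have hxa : Function.update (Fin.init x) (Fin.last m) a = Fin.init x := Function.update_eq_self _ _
  have hx : U a b = ψ x := by simp only [U, hxa, b, j, Fin.snoc_init_self]
  have h := integral_congr_ae (μ := μ) (.of_forall hc)
  rw [integral_add (hint _) (integrable_const _), integral_const, probReal_univ, one_smul,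
    integral_add ((hint a).comp_add_left b) (hint b),
    integral_add_left_eq_self (fun c => U a c) b, hx] at h
  simp only [step, U, hxa] at h ⊢
  linarith

theorem eq_dev_Phi : ∀ (m : ℕ) {ψ : (Fin (m + 1) → G) → ℝ}, Continuous ψ → IsCocycle ψ →
    ∀ x, ψ x = dev Finset.univ (Phi μ m ψ) x
  | 0, ψ, _, _, x => by rw [dev_univ_one, Phi_zero]
  | m + 1, ψ, hc, h, x => by
    have ih := eq_dev_Phi m (continuous_step μ hc) (isCocycle_step μ hc h)
    have : Phi μ (m + 1) ψ = Phi μ m (step μ ψ) := funext (Phi_step μ hc)
    rw [this, dev_univ_succ, ← ih, ← ih, ← ih]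
    exact eq_step μ hc h x

theorem Phi_dev : ∀ (m : ℕ) {φ : G → ℝ}, Continuous φ →
    Phi μ m (dev Finset.univ φ) = φ
  | 0, φ, _ => by
    funext g
    have := Phi_zero μ (dev Finset.univ φ) (fun _ => g)
    rwa [dev_univ_one] at this
  | m + 1, φ, hφ => by
    have hd := continuous_dev (Finset.univ : Finset (Fin (m + 2))) hφ
    rw [funext (Phi_step μ hd)]
    refine Eq.trans ?_ (Phi_dev m hφ)
    congr 1
    funext x
    let V : G → ℝ := fun c => dev Finset.univ φ (Function.update x (Fin.last m) c)
    have hV : Continuous V :=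
      (continuous_dev _ hφ).comp (continuous_const.update (Fin.last m) continuous_id)
    have hi : Integrable V μ := integrable_of_continuous μ hV
    have hsum : ∀ c, dev Finset.univ φ (Fin.snoc x c : Fin (m + 2) → G) =
        V (x (Fin.last m) + c) - dev Finset.univ φ x - V c := fun c => by
      rw [dev_univ_succ]
      simp [V, Fin.init_snoc]
    simp only [step, hsum]
    rw [integral_sub ((hi.comp_add_left _).sub' (integrable_const _)) hi,
      integral_sub (hi.comp_add_left _) (integrable_const _),
      integral_add_left_eq_self V, integral_const, probReal_univ, one_smul]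
    ring

end Compact

end Groth.Agent.Deviation
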